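import Mathlib.LinearAlgebra.Matrix.Symmetric
import Mathlib.Data.Matrix.Mul
import Mathlib.Data.Real.Basic
import Mathlib.Algebra.Order.BigOperators.Ring.Finset
import Mathlib.Tactic.LinearCombination
import Mathlib.Tactic.Positivity
import Mathlib.Tactic.FieldSimp
import Mathlib.Tactic.Ring
import Mathlib.Tactic.Linarith

/-! The quadratic form of a connected symmetric matrix killing a positive vector. -/

set_option autoImplicit false

open Finset Matrix

namespace Groth.Agent.CAlg9.NT

theorem form {n : ℕ} (A : Matrix (Fin n) (Fin n) ℝ) (m : Fin n → ℝ) (hsymm : A.IsSymm)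
    (hA : ∀ i j, i ≠ j → 0 ≤ A i j) (hm : ∀ i, 0 < m i) (hAm : A.mulVec m = 0)
    (hconn : ∀ I : Finset (Fin n), I.Nonempty → I ≠ univ → ∃ i ∈ I, ∃ j ∉ I, A i j ≠ 0)
    (x : Fin n → ℝ) :
    dotProduct x (A.mulVec x) ≤ 0 ∧ (dotProduct x (A.mulVec x) = 0 ↔ ∃ q : ℝ, x = q • m) := by
  classical
  have hrow : ∀ i, ∑ j, A i j * m j = 0 := fun i => congrFun hAm i
  have hcol : ∀ j, ∑ i, A i j * m i = 0 := fun j => by
    rw [← hrow j]; exact sum_congr rfl fun i _ => by rw [hsymm.apply j i]
  let S := fun i j => A i j * m i * m j * (x i / m i - x j / m j) ^ 2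
  have hdot : dotProduct x (A.mulVec x) = ∑ i, ∑ j, A i j * x i * x j := by
    simp only [dotProduct, Matrix.mulVec, mul_sum]
    exact sum_congr rfl fun i _ => sum_congr rfl fun j _ => by ring
  have hid : ∑ i, ∑ j, S i j = -2 * dotProduct x (A.mulVec x) := by
    have e : ∀ i j, S i j = A i j * m j * (x i ^ 2 / m i) + A i j * m i * (x j ^ 2 / m j)
        - 2 * (A i j * x i * x j) := fun i j => by
      have := (hm i).ne'
      have := (hm j).ne'
      simp only [S]
      field_simp
      ring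
    simp only [e, sum_sub_distrib, sum_add_distrib, ← sum_mul, hrow, zero_mul, sum_const_zero, zero_add]
    rw [sum_comm]
    simp only [← sum_mul, hcol, zero_mul, sum_const_zero, zero_sub, ← mul_sum, hdot]
    ring
  have hS : ∀ i j, 0 ≤ S i j := fun i j => by
    by_cases h : i = j
    · subst h; simp [S]
    · have := hA i j h; have := hm i; have := hm j
      positivity
  have hnonneg : 0 ≤ ∑ i, ∑ j, S i j := sum_nonneg fun i _ => sum_nonneg fun j _ => hS i j
  refine ⟨by linarith, fun h0 => ?_, fun ⟨q, hq⟩ => by simp [hq, Matrix.mulVec_smul, hAm]⟩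
  rcases isEmpty_or_nonempty (Fin n) with he | ⟨⟨i₀⟩⟩
  · exact ⟨0, funext fun i => (he.false i).elim⟩
  refine ⟨x i₀ / m i₀, funext fun l => ?_⟩
  have hz : ∀ i j, S i j = 0 := fun i j => by
    have h1 := (sum_eq_zero_iff_of_nonneg fun i _ => sum_nonneg fun j _ => hS i j).1
      (show ∑ i, ∑ j, S i j = 0 by rw [hid, h0, mul_zero]) i (mem_univ i)
    exact (sum_eq_zero_iff_of_nonneg fun j _ => hS i j).1 h1 j (mem_univ j)
  let I := univ.filter (fun i => x i / m i = x i₀ / m i₀)
  have hI : I = univ := by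
    by_contra hne
    obtain ⟨i, hi, j, hj, hij⟩ := hconn I ⟨i₀, by simp [I]⟩ hne
    simp only [I, mem_filter, mem_univ, true_and] at hi hj
    have h2 := hz i j
    simp only [S, mul_eq_zero, sq_eq_zero_iff, sub_eq_zero, hij, (hm i).ne', (hm j).ne', false_or] at h2
    exact hj (h2 ▸ hi)
  have hl : l ∈ I := hI ▸ mem_univ l
  simp only [I, mem_filter, mem_univ, true_and] at hl
  simp only [Pi.smul_apply, smul_eq_mul, ← hl, div_mul_cancel₀ _ (hm l).ne']

end Groth.Agent.CAlg9.NT
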