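import Groth.Agent.NT93.Basic
import Mathlib.Data.ZMod.Basic
import Mathlib.Algebra.Field.Rat
import Mathlib.Algebra.Order.Field.Basic
import Mathlib.Tactic.LinearCombination
import Mathlib.Tactic.FieldSimp

/-!
Elementary bounds for numerical types: parity, genus, topological genus, kernel of the matrix.
-/

set_option autoImplicit false

open Finset

namespace Groth.Agent.CAlg9.NT

variable {n : ℕ} (T : Models.NumericalType n)

/-- In a sum of a symmetric function over pairs, only the diagonal survives modulo two. -/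
theorem sum_symm_zmod_two {ι : Type*} [Fintype ι] [DecidableEq ι] (f : ι → ι → ZMod 2)
    (hf : ∀ i j, f i j = f j i) : ∑ i, ∑ j, f i j = ∑ i, f i i := by
  have h0 : ∑ p ∈ (univ : Finset (ι × ι)).filter (fun p => p.1 ≠ p.2), f p.1 p.2 = 0 := by
    refine Finset.sum_involution (fun p _ => p.swap) (fun p _ => ?_) (fun p hp _ => ?_)
      (fun p hp => ?_) (fun p _ => Prod.swap_swap p)
    · rw [Prod.fst_swap, Prod.snd_swap, hf p.2 p.1]; exact CharTwo.add_self_eq_zero _
    · simp only [mem_filter] at hp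
      exact fun h => hp.2 (congrArg Prod.snd h)
    · simp only [mem_filter, mem_univ, true_and, Prod.fst_swap, Prod.snd_swap] at hp ⊢
      exact Ne.symm hp
  rw [← Fintype.sum_prod_type', ← sum_filter_add_sum_filter_not univ (fun p : ι × ι => p.1 ≠ p.2), h0,
    zero_add]
  refine (Finset.sum_bij (fun i _ => (i, i)) (fun i _ => by simp) (fun i _ j _ h => congrArg Prod.fst h)
    (fun p hp => ?_) (fun i _ => rfl)).symm
  simp only [mem_filter, mem_univ, true_and, not_not] at hp
  exact ⟨p.1, mem_univ _, Prod.ext rfl hp⟩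

theorem two_dvd_sum : (2 : ℤ) ∣ ∑ i, T.m i * T.a i i := by
  rw [show (2 : ℤ) = ((2 : ℕ) : ℤ) from rfl, ← ZMod.intCast_zmod_eq_zero_iff_dvd]
  push_cast
  have h := sum_symm_zmod_two (fun i j : Fin n => ((T.m i * T.m j * T.a i j : ℤ) : ZMod 2))
    (fun i j => by rw [NT93.aSymm T i j, mul_comm (T.m i)])
  have hz : ∀ i, ∑ j, ((T.m i * T.m j * T.a i j : ℤ) : ZMod 2) = 0 := fun i => by
    rw [← Int.cast_sum, show ∑ j, T.m i * T.m j * T.a i j = T.m i * ∑ j, T.a i j * T.m j by
      rw [Finset.mul_sum]; exact sum_congr rfl fun j _ => by ring, NT93.rowM, mul_zero, Int.cast_zero]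
  rw [sum_eq_zero (fun i _ => hz i)] at h
  rw [h]
  refine sum_congr rfl fun i _ => ?_
  push_cast
  have : ∀ x : ZMod 2, x * x = x := by decide
  rw [this]

/-- The contribution of an index to twice the genus. -/
def c (i : Fin n) : ℤ := T.m i * (2 * T.w i * (T.g i - 1) - T.a i i)

theorem sum_c : ∑ i, c T i = 2 * T.genus - 2 := by
  obtain ⟨q, hq⟩ := two_dvd_sum T
  have : ∑ i, c T i = 2 * ∑ i, T.m i * T.w i * (T.g i - 1) - ∑ i, T.m i * T.a i i := by
    rw [Finset.mul_sum, ← sum_sub_distrib]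
    exact sum_congr rfl fun i _ => by simp only [c]; ring
  rw [this, Models.NumericalType.genus, hq, Int.mul_ediv_cancel_left _ two_ne_zero]
  ring

theorem c_nonneg (hn : 1 < n) (hmin : T.IsMinimal) (i : Fin n) : 0 ≤ c T i :=
  not_lt.1 fun h => hmin i ((NT93.contrib (T := T) hn i).1 h)

theorem one_le_c (hn : 1 < n) (hmin : T.IsMinimal) {i : Fin n} (h : ¬T.IsMinusTwo i) : 1 ≤ c T i := by
  rcases (c_nonneg T hn hmin i).eq_or_lt with h0 | h0
  · exact absurd ((NT93.contrib (T := T) hn i).2 h0.symm) h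
  · exact h0

theorem one_le_genus (hn : 1 < n) (hmin : T.IsMinimal) : 1 ≤ T.genus := by
  have := sum_c T
  have := sum_nonneg (s := univ) fun i _ => c_nonneg T hn hmin i
  omega

theorem diag_eq_zero_of_one {T : Models.NumericalType 1} (i : Fin 1) : T.a i i = 0 := by
  have h := NT93.rowM T i
  rw [Fin.sum_univ_one, ← Subsingleton.elim i 0] at h
  exact (mul_eq_zero.1 h).resolve_right (ne_of_gt (T.m_pos i))

theorem diag_nonpos (i : Fin n) : T.a i i ≤ 0 := by
  have hle : ∑ l ∈ (∅ : Finset (Fin n)), T.a i l * T.m l ≤ - T.a i i * T.m i := NT93.nbr_le (T := T) i ∅ (by simp)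
  rw [sum_empty] at hle
  by_contra h
  nlinarith [T.m_pos i]

theorem mul_le (i j : Fin n) (hij : 0 < T.a i j) :
    T.m i * T.a i j ≤ T.m j * |T.a j j| ∧ T.m i * T.w i ≤ T.m j * |T.a j j| := by
  have hne : i ≠ j := fun h => by subst h; exact absurd hij (not_lt.2 (diag_nonpos T i))
  have h := NT93.nbr_le (T := T) j {i} (by simpa using hne.symm)
  rw [sum_singleton, NT93.aSymm T i j] at h
  rw [abs_of_nonpos (diag_nonpos T j)]
  have hw := NT93.w_le_of_ne T hne (ne_of_gt hij)
  have := T.m_pos i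
  constructor <;> nlinarith

/-- The ratio `- a i i / w i`. -/
theorem ratio (hn : 1 < n) (hmin : T.IsMinimal) (i : Fin n) :
    ∃ k : ℤ, T.a i i = - T.w i * k ∧ 1 ≤ k ∧ k - 2 ≤ c T i := by
  obtain ⟨q, hq⟩ := T.w_dvd i i
  have hneg := NT93.diag_neg (T := T) hn i
  have hw := T.w_pos i
  have hm := T.m_pos i
  have hk : 1 ≤ -q := by nlinarith
  refine ⟨-q, by rw [hq]; ring, hk, ?_⟩
  have hc : c T i = T.m i * T.w i * (2 * T.g i - 2 - q) := by simp only [c, hq]; ring
  have h1 : 1 ≤ T.m i * T.w i := by nlinarith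
  rcases (T.g_nonneg i).eq_or_lt with hg | hg
  · have hq2 : q ≠ -1 := fun h => hmin i ⟨hg.symm, by rw [hq, h]; ring⟩
    rw [hc, ← hg]
    have : 0 ≤ -q - 2 := by omega
    nlinarith
  · rw [hc]
    have : -q ≤ 2 * T.g i - 2 - q := by omega
    nlinarith

/-- The topological genus of a minimal type is at most the genus. -/
theorem topGenus_le (hn : 1 < n) (hmin : T.IsMinimal) : T.topGenus ≤ T.genus := by
  classical
  choose k hk1 hk2 hk3 using ratio T hn hmin
  let E := (univ : Finset (Fin n × Fin n)).filter (fun p => p.1 < p.2 ∧ 0 < T.a p.1 p.2)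
  have hrow : ∀ i, ∑ j ∈ univ.filter (fun j => j ≠ i ∧ 0 < T.a i j), (T.m j : ℚ) / T.m i ≤ (k i : ℚ) := by
    intro i
    have h := NT93.nbr_le (T := T) i (univ.filter (fun j => j ≠ i ∧ 0 < T.a i j)) (by simp)
    have h' : ∑ j ∈ univ.filter (fun j => j ≠ i ∧ 0 < T.a i j), T.w i * T.m j ≤ T.w i * (k i * T.m i) := by
      refine le_trans (sum_le_sum fun j hj => ?_) (h.trans (le_of_eq (by rw [hk1]; ring)))
      simp only [mem_filter] at hj
      exact mul_le_mul_of_nonneg_right (NT93.w_le_of_ne T hj.2.1.symm (ne_of_gt hj.2.2)) (T.m_pos j).le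
    rw [← mul_sum] at h'
    have h2 := le_of_mul_le_mul_left h' (T.w_pos i)
    rw [← sum_div, div_le_iff₀ (by exact_mod_cast T.m_pos i)]
    exact_mod_cast h2
  have hsum : (2 * E.card : ℚ) ≤ ∑ i, (k i : ℚ) := by
    refine le_trans ?_ (sum_le_sum fun i _ => hrow i)
    simp only [sum_filter]
    rw [← Fintype.sum_prod_type']
    have h1 : ∀ p : Fin n × Fin n, (if p.2 ≠ p.1 ∧ 0 < T.a p.1 p.2 then (T.m p.2 : ℚ) / T.m p.1 else 0) =
        (if p.1 < p.2 ∧ 0 < T.a p.1 p.2 then (T.m p.2 : ℚ) / T.m p.1 else 0) +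
          (if p.2 < p.1 ∧ 0 < T.a p.1 p.2 then (T.m p.2 : ℚ) / T.m p.1 else 0) := fun p => by
      rcases lt_trichotomy p.1 p.2 with h | h | h
      · simp [h, h.ne', h.not_gt]
      · simp [h]
      · simp [h, h.ne, h.not_gt]
    rw [sum_congr rfl fun p _ => h1 p, sum_add_distrib,
      ← Equiv.sum_comp (Equiv.prodComm (Fin n) (Fin n))
        (fun p => if p.2 < p.1 ∧ 0 < T.a p.1 p.2 then (T.m p.2 : ℚ) / T.m p.1 else 0),
      ← sum_add_distrib]
    rw [show (2 * E.card : ℚ) = ∑ p : Fin n × Fin n, (if p.1 < p.2 ∧ 0 < T.a p.1 p.2 then (2 : ℚ) else 0) by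
      rw [← sum_filter, sum_const, nsmul_eq_mul, mul_comm]]
    refine sum_le_sum fun p _ => ?_
    simp only [Equiv.prodComm_apply, Prod.fst_swap, Prod.snd_swap, NT93.aSymm T p.1 p.2]
    split_ifs
    · have h1 : (0 : ℚ) < T.m p.1 := by exact_mod_cast T.m_pos p.1
      have h2 : (0 : ℚ) < T.m p.2 := by exact_mod_cast T.m_pos p.2
      rw [div_add_div _ _ h1.ne' h2.ne', le_div_iff₀ (mul_pos h1 h2)]
      nlinarith [sq_nonneg ((T.m p.1 : ℚ) - T.m p.2)]
    · simp
  have hk : 2 * (E.card : ℤ) ≤ ∑ i, k i := by exact_mod_cast hsum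
  have hc : ∑ i, (k i - 2) ≤ ∑ i, c T i := sum_le_sum fun i _ => hk3 i
  rw [sum_sub_distrib, sum_const, card_univ, Fintype.card_fin, sum_c] at hc
  simp only [nsmul_eq_mul] at hc
  show 1 - (n : ℤ) + (E.card : ℤ) ≤ T.genus
  omega

/-- The kernel of the matrix consists of the multiples of `m`. -/
theorem kernel (x : Fin n → ℤ) (hx : ∀ i, ∑ l, T.a i l * x l = 0) (i l : Fin n) :
    T.m i * x l = T.m l * x i := by
  let t := 1 + ∑ j, |x j|
  have hX : ∀ j, 0 < x j + t * T.m j := fun j => by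
    have h1 : |x j| ≤ ∑ j, |x j| := single_le_sum (fun j _ => abs_nonneg (x j)) (mem_univ j)
    have h2 := neg_abs_le (x j)
    have : 0 ≤ t := by positivity
    nlinarith [T.m_pos j]
  obtain ⟨-, -, h⟩ := NT93.key T (fun j => x j + t * T.m j) (fun j => (hX j).le) ⟨i, hX i⟩ (fun j _ => by
    rw [show ∑ l, T.a j l * (x l + t * T.m l) = ∑ l, T.a j l * x l + t * ∑ l, T.a j l * T.m l by
      rw [mul_sum, ← sum_add_distrib]; exact sum_congr rfl fun l _ => by ring, hx j, NT93.rowM]
    simp)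
  have := h i l
  linear_combination this

theorem finrank_pic : Module.finrank ℤ T.Pic = 1 := by
  have i₀ : Fin n := ⟨0, T.pos⟩
  let P := Matrix.mulVecLin T.picMatrix
  have hP : ∀ (x : Fin n → ℤ) i, T.w i * P x i = ∑ l, T.a i l * x l := fun x i => by
    simp only [P, Matrix.mulVecLin_apply, Matrix.mulVec, dotProduct, mul_sum,
      Models.NumericalType.picMatrix, ← mul_assoc]
    exact sum_congr rfl fun l _ => by rw [Int.mul_ediv_cancel' (T.w_dvd i l)]
  have hker : ∀ x ∈ LinearMap.ker P, ∀ i, ∑ l, T.a i l * x l = 0 := fun x hx i => by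
    rw [← hP, LinearMap.mem_ker.1 hx]; simp
  have hm : T.m ∈ LinearMap.ker P := by
    refine LinearMap.mem_ker.2 (funext fun i => ?_)
    have := hP T.m i
    rw [NT93.rowM] at this
    exact (mul_eq_zero.1 this).resolve_left (ne_of_gt (T.w_pos i))
  let ev : LinearMap.ker P →ₗ[ℤ] ℤ := (LinearMap.proj i₀).comp (LinearMap.ker P).subtype
  have hev : Function.Injective ev := (injective_iff_map_eq_zero ev).2 fun x hx => by
    refine Subtype.ext (funext fun l => ?_)
    have h := kernel T x.1 (hker x.1 x.2) i₀ l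
    have hx' : x.1 i₀ = 0 := hx
    rw [hx', mul_zero] at h
    exact (mul_eq_zero.1 h).resolve_left (ne_of_gt (T.m_pos i₀))
  have h1 : Module.finrank ℤ (LinearMap.ker P) = 1 := by
    refine le_antisymm ((LinearMap.finrank_le_finrank_of_injective hev).trans (Module.finrank_self ℤ).le) ?_
    rw [Nat.one_le_iff_ne_zero]
    intro h0
    have : Subsingleton (LinearMap.ker P) := Module.finrank_zero_iff.1 h0
    have := congrArg (fun y : LinearMap.ker P => y.1 i₀) (Subsingleton.elim ⟨T.m, hm⟩ 0)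
    exact ne_of_gt (T.m_pos i₀) this
  have h2 := Submodule.finrank_quotient_add_finrank (LinearMap.range P)
  have h3 := Submodule.finrank_quotient_add_finrank (LinearMap.ker P)
  rw [LinearEquiv.finrank_eq P.quotKerEquivRange] at h3
  rw [Module.finrank_fin_fun] at h2 h3
  show Module.finrank ℤ ((Fin n → ℤ) ⧸ LinearMap.range P) = 1
  omega

theorem pic_embeds : ∃ f : T.Pic →+ T.CokerA, Function.Injective f ∧
    ∀ x : Fin n → ℤ, f (Submodule.Quotient.mk x) = Submodule.Quotient.mk (fun i => T.w i * x i) := by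
  let D : (Fin n → ℤ) →ₗ[ℤ] (Fin n → ℤ) :=
    { toFun := fun x i => T.w i * x i
      map_add' := fun x y => funext fun i => mul_add _ _ _
      map_smul' := fun r x => funext fun i => mul_left_comm _ _ _ }
  have hD : ∀ y, D (Matrix.mulVecLin T.picMatrix y) = Matrix.mulVecLin T.a y := fun y => funext fun i => by
    show T.w i * (T.picMatrix.mulVec y) i = T.a.mulVec y i
    simp only [Matrix.mulVec, dotProduct, mul_sum, Models.NumericalType.picMatrix, ← mul_assoc]
    exact sum_congr rfl fun l _ => by rw [Int.mul_ediv_cancel' (T.w_dvd i l)]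
  let F : T.Pic →ₗ[ℤ] T.CokerA := Submodule.mapQ _ _ D (by
    rintro _ ⟨y, rfl⟩; exact ⟨y, (hD y).symm⟩)
  refine ⟨F.toAddMonoidHom, (injective_iff_map_eq_zero _).2 fun z hz => ?_, fun x => rfl⟩
  obtain ⟨x, rfl⟩ := Submodule.Quotient.mk_surjective _ z
  obtain ⟨y, hy⟩ := (Submodule.Quotient.mk_eq_zero _).1 hz
  refine (Submodule.Quotient.mk_eq_zero _).2 ⟨y, funext fun i => ?_⟩
  rw [← hD] at hy
  exact mul_left_cancel₀ (ne_of_gt (T.w_pos i)) (congrFun hy i)

/-- The bounds on indices that are not `(-2)`-indices. -/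
theorem bounds (hn : 1 < n) (hmin : T.IsMinimal) [DecidablePred fun j => ¬T.IsMinusTwo j] :
    ((univ.filter fun j => ¬T.IsMinusTwo j).card : ℤ) ≤ 2 * T.genus - 2 ∧
      ∀ j, ¬T.IsMinusTwo j →
        T.g j < T.genus ∧ T.m j * |T.a j j| ≤ 6 * T.genus - 6 ∧
          ∀ i, T.m i * T.a i j ≤ 6 * T.genus - 6 := by
  have hs := sum_c T
  refine ⟨?_, fun j hj => ?_⟩
  · calc ((univ.filter fun j => ¬T.IsMinusTwo j).card : ℤ)
        = ∑ _j ∈ univ.filter (fun j => ¬T.IsMinusTwo j), (1 : ℤ) := by simp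
      _ ≤ ∑ j ∈ univ.filter (fun j => ¬T.IsMinusTwo j), c T j :=
          sum_le_sum fun j hj => one_le_c T hn hmin (mem_filter.1 hj).2
      _ ≤ ∑ j, c T j := sum_le_sum_of_subset_of_nonneg (filter_subset _ _) fun i _ _ => c_nonneg T hn hmin i
      _ = _ := hs
  · have hle : c T j ≤ 2 * T.genus - 2 :=
      hs ▸ single_le_sum (fun i _ => c_nonneg T hn hmin i) (mem_univ j)
    have h1 := one_le_c T hn hmin hj
    obtain ⟨q, hq⟩ := T.w_dvd j j
    have hneg := NT93.diag_neg (T := T) hn j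
    have hw := T.w_pos j
    have hm := T.m_pos j
    have hmw : 1 ≤ T.m j * T.w j := by nlinarith
    have hq0 : q ≤ -1 := by nlinarith
    have hc : c T j = T.m j * T.w j * (2 * T.g j - 2 - q) := by simp only [c, hq]; ring
    have habs : T.m j * |T.a j j| = T.m j * T.w j * (-q) := by rw [abs_of_neg hneg, hq]; ring
    have h3 : T.m j * |T.a j j| ≤ 3 * c T j := by
      rw [habs, hc]
      rcases (T.g_nonneg j).eq_or_lt with hg | hg
      · have hq1 : q ≠ -1 := fun h => hmin j ⟨hg.symm, by rw [hq, h]; ring⟩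
        have hq2 : q ≠ -2 := fun h => hj ⟨hg.symm, by rw [hq, h]; ring⟩
        rw [← hg]
        nlinarith [show q ≤ -3 by omega]
      · nlinarith [show 0 ≤ 2 * (2 * T.g j - 2) + (2 * T.g j - 2) - 2 * q by omega]
    refine ⟨?_, by omega, fun i => ?_⟩
    · rcases (T.g_nonneg j).eq_or_lt with hg | hg
      · omega
      · have : 2 * T.g j - 2 - q ≤ c T j := by rw [hc]; nlinarith
        omega
    · by_cases hij : 0 < T.a i j
      · have := (mul_le T i j hij).1; omega
      · nlinarith [T.m_pos i]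

/-- A minimal type of genus zero is trivial. -/
theorem eq_trivial (hmin : T.IsMinimal) (hg : T.genus = 0) :
    n = 1 ∧ ∀ i, T.m i = 1 ∧ T.a i i = 0 ∧ T.w i = 1 ∧ T.g i = 0 := by
  have hn : n = 1 := by
    by_contra h
    have := one_le_genus T (by have := T.pos; omega) hmin
    omega
  subst hn
  refine ⟨rfl, fun i => ?_⟩
  obtain rfl := Subsingleton.elim i 0
  have ha := diag_eq_zero_of_one (T := T) 0
  have hs := sum_c T
  rw [Fin.sum_univ_one, hg, c, ha] at hs
  have hm := T.m_pos 0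
  have hw := T.w_pos 0
  have hg0 := T.g_nonneg 0
  have hg' : T.g 0 = 0 := by
    by_contra h
    nlinarith [mul_pos hm hw, show (1 : ℤ) ≤ T.g 0 by omega]
  rw [hg'] at hs
  have h1 : T.m 0 * T.w 0 = 1 := by linarith
  exact ⟨Int.eq_one_of_mul_eq_one_right hm.le h1, ha,
    Int.eq_one_of_mul_eq_one_left hw.le h1, hg'⟩

end Groth.Agent.CAlg9.NT
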